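import Cfsg.Agent.Lib.CosetEnum.TC
set_option autoImplicit false
set_option maxRecDepth 100000
namespace T54.H63S
open H54 (Tr force band)
open H18.TC
noncomputable def T_0 : Tr := (.node (nat_lit 3) (.node (nat_lit 1) (.node (nat_lit 0) (.leaf (nat_lit 0x100000626444652466086702fe03fd0050000010ff726943701a68a96b2a740040000073690fff256a2c71366e287500300000ab6b4e6c0cff0f6f1f72137600200000656d376e0e6f04ff07730b770010000042702b712072067301ff0478000000002974277512760c77037800ff000000001179107a0d7b057c027d017e)) (.leaf (nat_lit 0x50000041fd9b5542f95854bd576364004000009c552afd2d562bfa335a456500200000bf5752581ffd1ddb1efb2166002000008359345a1d5b05fd06fc09670050000028fe7edd6464ae5c805f29f9004000007e5d26fe3e5e4665556227fa00300000825f316011fe1463226612fb001000006161576216630bfe09e70afc))) (.node (nat_lit 2) (.leaf (nat_lit 0x50000018cb8fca595419f9a44cac5c0040000072fa71f973d0754d8e4a7c5d003000008f4a25cb24fa2e5639513d5e00200000aafba9cdc057a6cca8f9a7df00300000774d4dfb4ace4f584cd34be00050000064fc70508459874f675265e100200000715036fc385134da35fa546200300000695241530dfc0efb1c5b1563))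 (.leaf (nat_lit 0x1000007a4730f6325a3a512fd64c6c0040000060f75ec8a24cbe575fd4666d003000005e4856f752d855ce54f553ee002000005a542f5615f713f6174b14ef0050000061f8984963f46a52864f62f000400000974943f846d345f5484e44f100000000894f3b5123f822cb21f620f200200000a54c4a4e184b07f80a7708f3)))) (.node (nat_lit 5) (.node (nat_lit 4) (.leaf (nat_lit 0x200000ba4451f253624eec50de4fd10050000082f3a0c583ed84dfad5ca34c00300000a04533f331e0356e32f1494e00000000b05c3c5e1cf31e721bef1acb00000000afdbb146aed2adf4acd9abe8002000007df57f747cc87ac7b3467be900400000b5463bdb3df53f5351583cea0010000081f680c7884f85597ff4a86b)) (.leaf (nat_lit 0x20000070ee6fed74696dc28b416ec8003000008c413ae637ee39e038ea50580010000068ef6b42af5c69e466ed67d4002000006d4240ef47653ede4d6c3fd60020000059e35b4358e857f060616852000000009bf19af09d45b94499c398c9003000005c432ee32cf12dea3060405300400000bef2bac4bfebbde1bcf0bbcf))) (.node (nat_lit 6) (.leaf (nat_lit 0x2000005de25f617d5d5cc3b8446f500030000096e597e493c095c194c29955003000008eea90688cc191408de9b246001000001968266a17e7236616e31b5b00300000a4e7a5c0a1e1a76ba3e8a2d90020000076ecaa6b75c274e99240784700100000934049e74b6c566247e548da0010000088e68a4187df86ed85e4bc57))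 (.leaf (nat_lit 0x20000092cea64c944990ca91cd9e45004000008bd189cf8d4a96498ad0b744004000006cd36ad2764d6e5095496bc3004000005bd65ad479475d489a556c4200300000b9d8bb57b5c6b8d5b7c8b6c1003000009fdaa1599cd5b4469ec79dc000400000b4deb0dcb644b3c5b2ddb1ca0000000079e0815f78c37b5d9f4577cd)))))
noncomputable def J_0 : Tr := (.node (nat_lit 3) (.node (nat_lit 1) (.node (nat_lit 0) (.leaf (nat_lit 0x4004008000800800000000000000000000008008000000000000000000000080080000000000000000000000800800000000000000000000008008000000000000000000000080080000000000000000000000)) (.leaf (nat_lit 0x40040000040000000000000000400400000200000000000000000006002002000000000000000040040040000004004008000000000000a0000004004000000000000c00000000040040000000010000000000000000e002004))) (.node (nat_lit 2) (.leaf (nat_lit 0x4004008000002000000000000140040060000000000000000000c004000000000000000200200040040040010000000003001000000400400080080000000000000014000000001000200200200000000000008008004000000)) (.leaf (nat_lit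 0x6000000400400000000140040000000020000000000000c0040020010010000000000000c0040000010004004000004000000000a0000004004006002000000c000000000000800a00380080000000000004004000001)))) (.node (nat_lit 5) (.node (nat_lit 4) (.leaf (nat_lit 0x4000800800800200080080140080040000000000000000c004000001000000000000000100000070010000014000002002800e00200000080000030010000004000000800800c00000000180000080030000002002000)) (.leaf (nat_lit 0x4004000800800000200000000060020010008000000004000000000d00100200000000020004004000001000000400000180080000000000028018000000001c004000000000c00400200000000000050010018008008003))) (.node (nat_lit 6) (.leaf (nat_lit 0x4000000800800000000000180160020010008000000003000400400000100000000000000028002002000000000c00300100000040040000008000003001000000000000000180000010010020000008000002800e002000)) (.leaf (nat_lit 0x4000000800800800000000140040000000020000000002800800000000000180000050010000000000000000000c0010010008004004000001800200200000080080000028008000004004001800000a0000010000001001)))))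
noncomputable def F_0 : Tr := (.node (nat_lit 2) (.node (nat_lit 0) (.leaf (nat_lit 0xebbf3dfbfd72beae649b8968de7ae9b76b30bb3c745d65544d24503ce34c8e28607de75c6da65818510308b289207001)) (.node (nat_lit 1) (.leaf (nat_lit 0xcafdaadf88baefd59c5ff69bf954937bc7cf8633909b99cba6b2b4c31248cf5b86b2d164a2510381d65805444d3001c2)) (.leaf (nat_lit 0xd76bf7ab9ea2f3efd9516752f5f6e13fb55e4e044d2f8b26ba8c49b4ad071b2a739f0944ac59028da70161739000c203)))) (.node (nat_lit 3) (.leaf (nat_lit 0xdb5cb8e6aefc8bff987bd4e05918da5fa3947527ccb772b09739c82ec1f4aef168c66b831a90a46e105c64f54040d244)) (.node (nat_lit 4) (.leaf (nat_lit 0xcf0b6ba268e079b5d5fd463e499f50f0f73b37a321e4b938277229d87bb1d46d3212f0eca829e58817dd69601344e285)) (.leaf (nat_lit 0xc6eb299e585f75a557613fd947e43d70ef0deccea390ae49e08deb1f6c33d05d44c83bed0aaa2606281e6c059448f2c6)))))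
noncomputable def T : Tr := T_0
noncomputable def J : Tr := J_0
noncomputable def F : Tr := F_0
noncomputable def row (u : ℕ) : ℕ := Nat.land (Nat.shiftRight (force (Nat.shiftRight u (nat_lit 3)) T.get) (Nat.mul (Nat.land u (nat_lit 7)) (nat_lit 128))) (nat_lit 0xffffffffffffffffffffffffffffffff)
noncomputable def jrow (u : ℕ) : ℕ := Nat.land (Nat.shiftRight (force (Nat.shiftRight u (nat_lit 3)) J.get) (Nat.mul (Nat.land u (nat_lit 7)) (nat_lit 91))) (nat_lit 0x7ffffffffffffffffffffff)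
noncomputable def fget (k fx : ℕ) : ℕ := F.get (Nat.add k fx)
noncomputable def wt0 : LT := (.node (nat_lit 2) (.node (nat_lit 0) (.leaf 15 0 [nat_lit 32, nat_lit 0, nat_lit 32])
(.node (nat_lit 1) (.leaf 17 0 [nat_lit 48, nat_lit 0, nat_lit 48])
(.leaf 25 3 [nat_lit 64, nat_lit 0, nat_lit 64])))
(.node (nat_lit 4) (.node (nat_lit 3) (.leaf 13 0 [nat_lit 16, nat_lit 0, nat_lit 16])
(.leaf 31 3 [nat_lit 80, nat_lit 0, nat_lit 80]))
(.leaf 0 0 [])))
noncomputable def wt1 : LT := (.node (nat_lit 1) (.node (nat_lit 0) (.leaf 21 0 [nat_lit 48, nat_lit 16, nat_lit 48])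
(.leaf 19 0 [nat_lit 32, nat_lit 16, nat_lit 32]))
(.node (nat_lit 3) (.node (nat_lit 2) (.leaf 13 3 [nat_lit 0, nat_lit 16, nat_lit 0])
(.leaf 27 3 [nat_lit 64, nat_lit 32, nat_lit 64]))
(.leaf 0 0 [])))
noncomputable def wt2 : LT := (.node (nat_lit 4) (.node (nat_lit 0) (.leaf 23 0 [nat_lit 48, nat_lit 32, nat_lit 48])
(.node (nat_lit 1) (.leaf 27 1 [nat_lit 64, nat_lit 16, nat_lit 64])
(.node (nat_lit 2) (.leaf 19 3 [nat_lit 16, nat_lit 32, nat_lit 16])
(.node (nat_lit 3) (.leaf 35 6 [nat_lit 80, nat_lit 48, nat_lit 32, nat_lit 16, nat_lit 0, nat_lit 80])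
(.leaf 15 3 [nat_lit 0, nat_lit 32, nat_lit 0])))))
(.node (nat_lit 5) (.leaf 35 2 [nat_lit 16, nat_lit 0, nat_lit 80, nat_lit 32, nat_lit 80, nat_lit 48])
(.leaf 0 0 [])))
noncomputable def wt3 : LT := (.node (nat_lit 3) (.node (nat_lit 1) (.node (nat_lit 0) (.leaf 23 3 [nat_lit 32, nat_lit 48, nat_lit 32])
(.leaf 17 3 [nat_lit 0, nat_lit 48, nat_lit 0]))
(.node (nat_lit 2) (.leaf 29 6 [nat_lit 64, nat_lit 48, nat_lit 32, nat_lit 16, nat_lit 0, nat_lit 64])
(.leaf 33 1 [nat_lit 80, nat_lit 16, nat_lit 80])))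
(.node (nat_lit 4) (.leaf 21 3 [nat_lit 16, nat_lit 48, nat_lit 16])
(.leaf 0 0 [])))
noncomputable def wt4 : LT := (.node (nat_lit 3) (.node (nat_lit 0) (.leaf 29 5 [nat_lit 48, nat_lit 64, nat_lit 48, nat_lit 32, nat_lit 16, nat_lit 0])
(.node (nat_lit 1) (.leaf 27 0 [nat_lit 32, nat_lit 64, nat_lit 16])
(.node (nat_lit 2) (.leaf 27 2 [nat_lit 16, nat_lit 64, nat_lit 32])
(.leaf 37 0 [nat_lit 80, nat_lit 64, nat_lit 80]))))
(.node (nat_lit 5) (.node (nat_lit 4) (.leaf 29 0 [nat_lit 48, nat_lit 32, nat_lit 16, nat_lit 0, nat_lit 64, nat_lit 48])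
(.leaf 25 0 [nat_lit 0, nat_lit 64, nat_lit 0]))
(.leaf 0 0 [])))
noncomputable def wt5 : LT := (.node (nat_lit 1) (.node (nat_lit 0) (.leaf 35 5 [nat_lit 32, nat_lit 80, nat_lit 48, nat_lit 32, nat_lit 16, nat_lit 0])
(.leaf 37 3 [nat_lit 64, nat_lit 80, nat_lit 64]))
(.node (nat_lit 3) (.node (nat_lit 2) (.leaf 33 0 [nat_lit 48, nat_lit 80, nat_lit 16])
(.leaf 33 2 [nat_lit 16, nat_lit 80, nat_lit 48]))
(.node (nat_lit 4) (.leaf 31 0 [nat_lit 0, nat_lit 80, nat_lit 0])
(.leaf 0 0 []))))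
noncomputable def wt6 : LT := (.leaf 0 0 [])
noncomputable def sl : List (ℕ × ℕ × List ℕ × List ℕ) := []
/-- the inverse column -/
noncomputable def icol (x : ℕ) : ℕ := x
noncomputable def inv (x : ℕ) : ℕ := x
def cols : List ℕ := [nat_lit 96, nat_lit 0, nat_lit 16, nat_lit 32, nat_lit 48, nat_lit 64, nat_lit 80]
noncomputable def cl : CL := (.cons (nat_lit 0) (nat_lit 0) (nat_lit 0) (nat_lit 0) wt0
(.cons (nat_lit 16) (nat_lit 16) (nat_lit 13) (nat_lit 1) wt1
(.cons (nat_lit 32) (nat_lit 32) (nat_lit 26) (nat_lit 2) wt2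
(.cons (nat_lit 48) (nat_lit 48) (nat_lit 39) (nat_lit 3) wt3
(.cons (nat_lit 64) (nat_lit 64) (nat_lit 52) (nat_lit 4) wt4
(.cons (nat_lit 80) (nat_lit 80) (nat_lit 65) (nat_lit 5) wt5
.nil))))))
def rels : List (List ℕ) := [[0, 0],
[1, 1],
[2, 2],
[3, 3],
[4, 4],
[5, 5],
[0, 1, 0, 1],
[0, 2, 0, 2],
[0, 3, 0, 3],
[1, 2, 1, 2],
[1, 3, 1, 3],
[2, 3, 2, 3],
[4, 0, 4, 0],
[4, 1, 4, 2],
[4, 3, 4, 0, 1, 2, 3],
[5, 0, 5, 0],
[5, 1, 5, 3],
[5, 2, 5, 0, 1, 2, 3],
[4, 5, 4, 5]]
def subs : List (List ℕ) := []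
noncomputable def chk : ℕ → Bool := rowChk row jrow fget sl cols (nat_lit 64) (nat_lit 64) (nat_lit 65535) (nat_lit 127) (nat_lit 65536) (nat_lit 96) (nat_lit 112) (nat_lit 8191) (nat_lit 6) (nat_lit 63) (nat_lit 6) (nat_lit 63) cl (nat_lit 78) wt6
theorem p0 : allB chk 6 0 = true := by decide +kernel
theorem all_chk : AllLt chk 64 := by
  have h := AllLt.zero chk
  have h := h.step 64 p0 (by decide +kernel)
  exact h
/-- column `x` of the final table -/
noncomputable def tab (x u : ℕ) : ℕ := ft fget (nat_lit 6) (nat_lit 63) (nat_lit 6) (nat_lit 63) (Nat.mul x (nat_lit 1)) u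
theorem enum {G Ω : Type*} [Group G] [MulAction G Ω] (g : ℕ → G) (ω : Ω)
    (hinv : ∀ x, g (icol x) = (g x)⁻¹) (h1 : g 6 = 1)
    (hrels : ∀ R ∈ rels, ev g R = 1) (hsubs : ∀ S ∈ subs, ev g S • ω = ω) :
    ∃ pt : ℕ → Ω, pt 0 = ω ∧ (∀ K : Subgroup G, (∀ x, g x ∈ K) → ∀ v, ∃ k ∈ K, pt v = k • ω) ∧
      ∀ x, x < 6 → ∀ u, u < 64 → tab x u < 64 ∧ g x • pt u = pt (tab x u) :=
  sound_scaled g ω row jrow fget sl inv icol cols (nat_lit 64) (nat_lit 64) (nat_lit 65535) (nat_lit 127) (nat_lit 65536) (nat_lit 96) (nat_lit 112) (nat_lit 8191) (nat_lit 6) (nat_lit 63) (nat_lit 6) (nat_lit 63) 7 cl (nat_lit 78) wt6 rels subs 16 (nat_lit 1) 6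
    (fun _ => rfl) hinv h1 hrels hsubs
    (by decide +kernel) (by decide +kernel) all_chk
end T54.H63S
namespace T54.H63B
open H54 (Tr force band)
open H18.TC
noncomputable def F_0 : Tr := (.node (nat_lit 3) (.node (nat_lit 1) (.node (nat_lit 0) (.leaf (nat_lit 0x24)) (.leaf (nat_lit 0x24))) (.node (nat_lit 2) (.leaf (nat_lit 0x24)) (.leaf (nat_lit 0x24)))) (.node (nat_lit 5) (.node (nat_lit 4) (.leaf (nat_lit 0x24)) (.leaf (nat_lit 0x24))) (.node (nat_lit 6) (.leaf (nat_lit 0x9)) (.leaf (nat_lit 0x12)))))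
noncomputable def T : Tr := (.leaf (nat_lit 0x5400003e04705d05906105505104d05400001f04103603203a02e02a02600000004902201b01701300f00b007))
noncomputable def J : Tr := (.leaf (nat_lit 0x20020010008004002001000800400100100000040020010008004002000000000205d02680f405a01d006))
noncomputable def F : Tr := F_0
noncomputable def row (u : ℕ) : ℕ := Nat.land (Nat.shiftRight (force (Nat.shiftRight u (nat_lit 3)) T.get) (Nat.mul (Nat.land u (nat_lit 7)) (nat_lit 120))) (nat_lit 0xffffffffffffffffffffffffffffff)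
noncomputable def jrow (u : ℕ) : ℕ := Nat.land (Nat.shiftRight (force (Nat.shiftRight u (nat_lit 3)) J.get) (Nat.mul (Nat.land u (nat_lit 7)) (nat_lit 117))) (nat_lit 0x1fffffffffffffffffffffffffffff)
noncomputable def fget (k fx : ℕ) : ℕ := F.get (Nat.add k fx)
noncomputable def wt0 : LT := (.node (nat_lit 0) (.leaf 41 3 [nat_lit 84, nat_lit 0, nat_lit 72])
(.leaf 0 0 []))
noncomputable def wt1 : LT := (.node (nat_lit 0) (.leaf 43 3 [nat_lit 84, nat_lit 12, nat_lit 72])
(.leaf 0 0 []))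
noncomputable def wt2 : LT := (.node (nat_lit 0) (.leaf 45 3 [nat_lit 84, nat_lit 36, nat_lit 72])
(.leaf 0 0 []))
noncomputable def wt3 : LT := (.node (nat_lit 0) (.leaf 47 6 [nat_lit 84, nat_lit 36, nat_lit 24, nat_lit 12, nat_lit 0, nat_lit 72])
(.leaf 0 0 []))
noncomputable def wt4 : LT := (.node (nat_lit 0) (.leaf 49 3 [nat_lit 84, nat_lit 60, nat_lit 72])
(.leaf 0 0 []))
noncomputable def wt5 : LT := (.node (nat_lit 0) (.leaf 51 4 [nat_lit 84, nat_lit 60, nat_lit 48, nat_lit 72])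
(.leaf 0 0 []))
noncomputable def wt6 : LT := (.node (nat_lit 0) (.leaf 39 0 [nat_lit 84, nat_lit 84])
(.leaf 0 0 []))
noncomputable def wt7 : LT := (.leaf 0 0 [])
noncomputable def wt8 : LT := (.leaf 0 0 [])
noncomputable def sl : List (ℕ × ℕ × List ℕ × List ℕ) := [(0, nat_lit 0, [], []),
(2, nat_lit 12, [], []),
(4, nat_lit 24, [], []),
(6, nat_lit 36, [], []),
(8, nat_lit 48, [], []),
(10, nat_lit 60, [], [])]
/-- the inverse column -/
noncomputable def icol (x : ℕ) : ℕ := List.getD [nat_lit 0, nat_lit 1, nat_lit 2, nat_lit 3, nat_lit 4, nat_lit 5, nat_lit 7, nat_lit 6] x x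
noncomputable def inv (x : ℕ) : ℕ := Nat.mul (icol (Nat.div x (nat_lit 12))) (nat_lit 12)
def cols : List ℕ := [nat_lit 96, nat_lit 0, nat_lit 12, nat_lit 24, nat_lit 36, nat_lit 48, nat_lit 60, nat_lit 72, nat_lit 84]
noncomputable def cl : CL := (.cons (nat_lit 0) (nat_lit 0) (nat_lit 0) (nat_lit 0) wt0
(.cons (nat_lit 12) (nat_lit 12) (nat_lit 13) (nat_lit 1) wt1
(.cons (nat_lit 24) (nat_lit 24) (nat_lit 26) (nat_lit 2) wt2
(.cons (nat_lit 36) (nat_lit 36) (nat_lit 39) (nat_lit 3) wt3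
(.cons (nat_lit 48) (nat_lit 48) (nat_lit 52) (nat_lit 4) wt4
(.cons (nat_lit 60) (nat_lit 60) (nat_lit 65) (nat_lit 5) wt5
(.cons (nat_lit 72) (nat_lit 84) (nat_lit 78) (nat_lit 6) wt6
(.cons (nat_lit 84) (nat_lit 72) (nat_lit 91) (nat_lit 7) wt7
.nil))))))))
def rels : List (List ℕ) := [[0, 0],
[1, 1],
[2, 2],
[3, 3],
[4, 4],
[5, 5],
[0, 1, 0, 1],
[0, 2, 0, 2],
[0, 3, 0, 3],
[1, 2, 1, 2],
[1, 3, 1, 3],
[2, 3, 2, 3],
[4, 0, 4, 0],
[4, 1, 4, 2],
[4, 3, 4, 0, 1, 2, 3],
[5, 0, 5, 0],
[5, 1, 5, 3],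
[5, 2, 5, 0, 1, 2, 3],
[4, 5, 4, 5],
[6, 6, 6],
[6, 0, 7, 0],
[6, 1, 7, 1],
[6, 2, 7, 3],
[6, 3, 7, 0, 1, 2, 3],
[6, 4, 7, 5],
[6, 5, 7, 4, 5]]
def subs : List (List ℕ) := [[0],
[1],
[2],
[3],
[4],
[5]]
noncomputable def chk : ℕ → Bool := rowChk row jrow fget sl cols (nat_lit 3) (nat_lit 3) (nat_lit 4095) (nat_lit 3) (nat_lit 4096) (nat_lit 96) (nat_lit 108) (nat_lit 8191) (nat_lit 6) (nat_lit 63) (nat_lit 2) (nat_lit 3) cl (nat_lit 104) wt8
theorem p0 : allB chk 4 0 = true := by decide +kernel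
theorem all_chk : AllLt chk 3 := by
  have h := AllLt.zero chk
  have h := h.step 3 p0 (by decide +kernel)
  exact h
/-- column `x` of the final table -/
noncomputable def tab (x u : ℕ) : ℕ := ft fget (nat_lit 6) (nat_lit 63) (nat_lit 2) (nat_lit 3) (Nat.mul x (nat_lit 1)) u
theorem enum {G Ω : Type*} [Group G] [MulAction G Ω] (g : ℕ → G) (ω : Ω)
    (hinv : ∀ x, g (icol x) = (g x)⁻¹) (h1 : g 8 = 1)
    (hrels : ∀ R ∈ rels, ev g R = 1) (hsubs : ∀ S ∈ subs, ev g S • ω = ω) :
    ∃ pt : ℕ → Ω, pt 0 = ω ∧ (∀ K : Subgroup G, (∀ x, g x ∈ K) → ∀ v, ∃ k ∈ K, pt v = k • ω) ∧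
      ∀ x, x < 8 → ∀ u, u < 3 → tab x u < 3 ∧ g x • pt u = pt (tab x u) :=
  sound_scaled g ω row jrow fget sl inv icol cols (nat_lit 3) (nat_lit 3) (nat_lit 4095) (nat_lit 3) (nat_lit 4096) (nat_lit 96) (nat_lit 108) (nat_lit 8191) (nat_lit 6) (nat_lit 63) (nat_lit 2) (nat_lit 3) 2 cl (nat_lit 104) wt8 rels subs 12 (nat_lit 1) 8
    (fun _ => Nat.mul_div_cancel _ (by decide)) hinv h1 hrels hsubs
    (by decide +kernel) (by decide +kernel) all_chk
end T54.H63B
namespace T54.H63C
open H54 (Tr force band)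
open H18.TC
noncomputable def F_0 : Tr := (.node (nat_lit 3) (.node (nat_lit 1) (.node (nat_lit 0) (.leaf (nat_lit 0x24)) (.leaf (nat_lit 0x18))) (.node (nat_lit 2) (.leaf (nat_lit 0x18)) (.leaf (nat_lit 0x18)))) (.node (nat_lit 5) (.node (nat_lit 4) (.leaf (nat_lit 0x24)) (.leaf (nat_lit 0x24))) (.node (nat_lit 6) (.leaf (nat_lit 0x24)) (.node (nat_lit 7) (.leaf (nat_lit 0x24)) (.leaf (nat_lit 0x21))))))
noncomputable def T : Tr := (.leaf (nat_lit 0x1800006d05905506906504e04206204906000002703603203e03a05104505d02e00000002a02301f01b01701300f00b007))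
noncomputable def J : Tr := (.leaf (nat_lit 0x10000008004002000c00400000200040040000010008004000000000800400000000040da05d02680f405a01d006))
noncomputable def F : Tr := F_0
noncomputable def row (u : ℕ) : ℕ := Nat.land (Nat.shiftRight (force (Nat.shiftRight u (nat_lit 3)) T.get) (Nat.mul (Nat.land u (nat_lit 7)) (nat_lit 132))) (nat_lit 0xfffffffffffffffffffffffffffffffff)
noncomputable def jrow (u : ℕ) : ℕ := Nat.land (Nat.shiftRight (force (Nat.shiftRight u (nat_lit 3)) J.get) (Nat.mul (Nat.land u (nat_lit 7)) (nat_lit 130))) (nat_lit 0x3ffffffffffffffffffffffffffffffff)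
noncomputable def fget (k fx : ℕ) : ℕ := F.get (Nat.add k fx)
noncomputable def wt0 : LT := (.node (nat_lit 1) (.node (nat_lit 0) (.leaf 55 3 [nat_lit 96, nat_lit 0, nat_lit 96])
(.leaf 15 0 [nat_lit 24, nat_lit 0, nat_lit 24]))
(.leaf 0 0 []))
noncomputable def wt1 : LT := (.node (nat_lit 0) (.leaf 47 3 [nat_lit 0, nat_lit 72, nat_lit 36, nat_lit 84, nat_lit 36, nat_lit 24])
(.leaf 0 0 []))
noncomputable def wt2 : LT := (.leaf 0 0 [])
noncomputable def wt3 : LT := (.node (nat_lit 0) (.leaf 65 6 [nat_lit 24, nat_lit 96, nat_lit 12, nat_lit 48, nat_lit 36, nat_lit 60, nat_lit 96])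
(.leaf 0 0 []))
noncomputable def wt4 : LT := (.node (nat_lit 1) (.node (nat_lit 0) (.leaf 61 3 [nat_lit 96, nat_lit 48, nat_lit 96])
(.leaf 27 2 [nat_lit 12, nat_lit 48, nat_lit 24]))
(.leaf 0 0 []))
noncomputable def wt5 : LT := (.node (nat_lit 1) (.node (nat_lit 0) (.leaf 63 3 [nat_lit 96, nat_lit 60, nat_lit 96])
(.leaf 33 2 [nat_lit 12, nat_lit 60, nat_lit 36]))
(.leaf 0 0 []))
noncomputable def wt6 : LT := (.node (nat_lit 1) (.node (nat_lit 0) (.leaf 57 3 [nat_lit 96, nat_lit 72, nat_lit 96])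
(.leaf 45 0 [nat_lit 36, nat_lit 72, nat_lit 24]))
(.leaf 0 0 []))
noncomputable def wt7 : LT := (.leaf 0 0 [])
noncomputable def wt8 : LT := (.node (nat_lit 0) (.leaf 59 0 [nat_lit 12, nat_lit 96, nat_lit 12, nat_lit 96, nat_lit 12])
(.leaf 0 0 []))
noncomputable def wt9 : LT := (.leaf 0 0 [])
noncomputable def sl : List (ℕ × ℕ × List ℕ × List ℕ) := [(0, nat_lit 0, [], []),
(2, nat_lit 12, [], []),
(4, nat_lit 24, [], []),
(6, nat_lit 36, [], []),
(8, nat_lit 48, [], []),
(10, nat_lit 60, [], []),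
(12, nat_lit 72, [], [])]
/-- the inverse column -/
noncomputable def icol (x : ℕ) : ℕ := List.getD [nat_lit 0, nat_lit 1, nat_lit 2, nat_lit 3, nat_lit 4, nat_lit 5, nat_lit 7, nat_lit 6, nat_lit 8] x x
noncomputable def inv (x : ℕ) : ℕ := Nat.mul (icol (Nat.div x (nat_lit 12))) (nat_lit 12)
def cols : List ℕ := [nat_lit 108, nat_lit 0, nat_lit 12, nat_lit 24, nat_lit 36, nat_lit 48, nat_lit 60, nat_lit 72, nat_lit 84, nat_lit 96]
noncomputable def cl : CL := (.cons (nat_lit 0) (nat_lit 0) (nat_lit 0) (nat_lit 0) wt0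
(.cons (nat_lit 12) (nat_lit 12) (nat_lit 13) (nat_lit 1) wt1
(.cons (nat_lit 24) (nat_lit 24) (nat_lit 26) (nat_lit 2) wt2
(.cons (nat_lit 36) (nat_lit 36) (nat_lit 39) (nat_lit 3) wt3
(.cons (nat_lit 48) (nat_lit 48) (nat_lit 52) (nat_lit 4) wt4
(.cons (nat_lit 60) (nat_lit 60) (nat_lit 65) (nat_lit 5) wt5
(.cons (nat_lit 72) (nat_lit 84) (nat_lit 78) (nat_lit 6) wt6
(.cons (nat_lit 84) (nat_lit 72) (nat_lit 91) (nat_lit 7) wt7
(.cons (nat_lit 96) (nat_lit 96) (nat_lit 104) (nat_lit 8) wt8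
.nil)))))))))
def rels : List (List ℕ) := [[0, 0],
[1, 1],
[2, 2],
[3, 3],
[4, 4],
[5, 5],
[0, 1, 0, 1],
[0, 2, 0, 2],
[0, 3, 0, 3],
[1, 2, 1, 2],
[1, 3, 1, 3],
[2, 3, 2, 3],
[4, 0, 4, 0],
[4, 1, 4, 2],
[4, 3, 4, 0, 1, 2, 3],
[5, 0, 5, 0],
[5, 1, 5, 3],
[5, 2, 5, 0, 1, 2, 3],
[4, 5, 4, 5],
[6, 6, 6],
[6, 0, 7, 0],
[6, 1, 7, 1],
[6, 2, 7, 3],
[6, 3, 7, 0, 1, 2, 3],
[6, 4, 7, 5],
[6, 5, 7, 4, 5],
[8, 8],
[8, 0, 8, 0],
[8, 6, 8, 7],
[8, 1, 8, 1, 8, 1],
[8, 4, 8, 4],
[8, 5, 8, 5],
[8, 2, 3, 8, 5, 3, 4, 1]]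
def subs : List (List ℕ) := [[0],
[1],
[2],
[3],
[4],
[5],
[6]]
noncomputable def chk : ℕ → Bool := rowChk row jrow fget sl cols (nat_lit 3) (nat_lit 3) (nat_lit 4095) (nat_lit 3) (nat_lit 4096) (nat_lit 108) (nat_lit 120) (nat_lit 8191) (nat_lit 6) (nat_lit 63) (nat_lit 2) (nat_lit 3) cl (nat_lit 117) wt9
theorem p0 : allB chk 4 0 = true := by decide +kernel
theorem all_chk : AllLt chk 3 := by
  have h := AllLt.zero chk
  have h := h.step 3 p0 (by decide +kernel)
  exact h
/-- column `x` of the final table -/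
noncomputable def tab (x u : ℕ) : ℕ := ft fget (nat_lit 6) (nat_lit 63) (nat_lit 2) (nat_lit 3) (Nat.mul x (nat_lit 1)) u
theorem enum {G Ω : Type*} [Group G] [MulAction G Ω] (g : ℕ → G) (ω : Ω)
    (hinv : ∀ x, g (icol x) = (g x)⁻¹) (h1 : g 9 = 1)
    (hrels : ∀ R ∈ rels, ev g R = 1) (hsubs : ∀ S ∈ subs, ev g S • ω = ω) :
    ∃ pt : ℕ → Ω, pt 0 = ω ∧ (∀ K : Subgroup G, (∀ x, g x ∈ K) → ∀ v, ∃ k ∈ K, pt v = k • ω) ∧
      ∀ x, x < 9 → ∀ u, u < 3 → tab x u < 3 ∧ g x • pt u = pt (tab x u) :=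
  sound_scaled g ω row jrow fget sl inv icol cols (nat_lit 3) (nat_lit 3) (nat_lit 4095) (nat_lit 3) (nat_lit 4096) (nat_lit 108) (nat_lit 120) (nat_lit 8191) (nat_lit 6) (nat_lit 63) (nat_lit 2) (nat_lit 3) 2 cl (nat_lit 117) wt9 rels subs 12 (nat_lit 1) 9
    (fun _ => Nat.mul_div_cancel _ (by decide)) hinv h1 hrels hsubs
    (by decide +kernel) (by decide +kernel) all_chk
end T54.H63C
namespace T54.H63U
open H54 (Tr force band)
open H18.TC
noncomputable def T_0 : Tr := (.node (nat_lit 4) (.node (nat_lit 1) (.node (nat_lit 0) (.leaf (nat_lit 0x4400000bde018fc0df98bbe434f61e731e3b8abc846a419f8002200000b4e22f7d173c0c7cc5ae62bfb18390e7dc65ec2cf9002a8000081a01d7309fe853f020fa12fc093d057e823f4117a0044000008be8167e0c3d85fec35f02c79107a8e1d876ee177b002a80000899e19780abd03bf418fc137a073e03ff01bf80d7c0022000007fa22ff907be051e821f4097e05fe82df415fa0a7d004c800000afe16fb047f021f819f809fd03ff01df80dfc067e0000000000bfc04ff023f80ffc06fe02ff013f807fc02fe00ff)) (.leaf (nat_lit 0x1980000bcf086632fb8975a937c8af652d74983bcb9e05bed000000000b3f281662c7517fc155ce8ee831b795fa4aee2566e003300000aad227f21b7b0954853e42a72187c8ade04de62672003300000a2d41cfa18bc86de05bf21df81a3b07dd44ee41c73004c800008af647f423ba11bd1cad679ec2677129b48ce861ef00110000091da24f514b90d7d847a421d2103d87bcc51f01ff50008800009adc37761aba8d9c869ec38f619f98dfec64f23376001100000cade3ef71ebb8f7dc7cee3cf71dfc0e5e475f63a77)))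 (.node (nat_lit 2) (.leaf (nat_lit 0x220000242c8cdd5486d3555976ae8e7148f1a41a11ebcc460003300000abe4b4582a76947b930b87bde2db8161c4a5d2536a001100000a1e67e592ef8165c514b4935b27f6939b89ed453e9000000001fe82e6eb72eeb9fb1c9e8e3dd71b5b8971c2cce061002200001f5867aec73b5b177591ba79743eaf1e9b107c6e9e2004c8000090eab06525b7151a545be85632835127d092da5c700033000009becab67293492bb504ccc160263a13ba897dc56f1001100000c9ee65ef31f7991bd1ac2ee623178981c0c4de6174)) (.node (nat_lit 3) (.leaf (nat_lit 0x44000020c7cbdd75fee2fb519aaac0ee61b2b138183b6c3e80011000022e708de16f29bbd8919dedf534630a2d6952cee0eb0019800022772efe27770bb34dd7a6edef742dbad89d4cae96c00088000236cc85f0443321d6541a884ed49342118d06d8ade500088000241d09ed45caba776d36e0d6564d722719933b8a4df003b80002127aafed5633ac561aeacaef061702b995d5c4ad63003b80002326e80f13feca1f8d03dcd055417327391c3d6a8670011000021678abee592c2b39554e2ba5754f3a9b7d51c2a7e6)) (.leaf (nat_lit 0x3b800021c76b3e95872ac79d6ab6b5da65aaadd51b8a6b2d900440000244b27dea4371a0198fdbc97dc5debb65598dbab35800440000247b688de6a2b245a113d4b658456d22f854bbe96dc00220000248b495dc4eb22e15d69b092ea74712536d84c093de0044000020280955b4fea3018131d297594cae38bad34c8965a003b80001f784c75d62b6399ad92d8e46b63ea329558cb2db530022000024abe895a51afb3154feb27b693e761f1791fd0945b00220000249bcd256686aa8f7944daa154532fa9d9d4ab4a464)))))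 (.node (nat_lit 6) (.node (nat_lit 5) (.leaf (nat_lit 0x4cbe3e880f4000021e790544d09a6fca00000000000000000004cbe1f07efa000020e810b3c000066ce0000000000000000000220a1d40000245212f9000000000217500000000045f022520019800022174dfd376b137785d8c4dee16ceb3735db7b0dadd004400002077e9e645fb027d7140c6a1df642eadb6179aed35600110000243aace6865ef3457d99c0cfe6656c32775b0acced700440000245aed1df6a7434f69adcad5e46d29b6365afaad2d4003b8000246acbe605bedae39175d0b9e75e2cb754d7aa8cf55)) (.leaf (nat_lit 0x3bbd73cea94000039251cb2ce79c764700000000000000000002a80001e18a0000000000000e094714d00000000000000000003bbdf44e9900000376580000e1926f500000000000000000000223db38dc96000039a400000da9e6c4c00000000000000000003bbd944d69a000034e71ab3400006ccb00000000000000000002abe5f4d798000000001a338cfa071c90000000000000000000223dd40ce9c000034a69a930e890665100000000000000000003bbe7f488f80000212890d40db96000000000000000000000))) (.node (nat_lit 7) (.leaf (nat_lit 0x19c718201b80000829f408fc000000007fe08000000000000003bc6995fdd600007ea1bf908000000008020000022c700000004cc7361f6ba000000003f10c0000000000000000000000000004cc759df4d800007e613f7040000000000000000000000000004c80001e48e000000003cd15e888f4c400000000000000000004c80001e092000079e200001e38af14500000000000000000003bbd51c000000003be380000f198784f00000000000000000002200001e58800003ba480000eda275c800000000000000000))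 (.node (nat_lit 8) (.leaf (nat_lit 0x3bc6f8a2dc200008a1cc52e8000000000000000022b83153c003bc7d8626c4000088dd00000000000000000000022587123d000047b4e20a600000000000000000000000000000222850fbb003bc79761bb0000085de432f400000000879f8000000000000003bc6bb215ce000084dec30ec00000000000000000000000000011477ae11ca0000869dc28f000000000841ec1cf800000000003bc81720bc00000821fc130000000000835f41ef400000000003bc7f5206a8000080e00000000000000875dc0b0800000000)) (.leaf (nat_lit 0x4678e31cc000000000000000000000000000002307917c1))))))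
noncomputable def J_0 : Tr := (.node (nat_lit 4) (.node (nat_lit 1) (.node (nat_lit 0) (.leaf (nat_lit 0x40040000000000000002000000000000000040000000000400000000000000010000080000000000c0100100000c000000000000000200000000000000000000010000180100100000c000020000080000500001c000000000000100100000000003000000000000000000000000000000001000000000000000000000000001401001000000000020000080000500001c0000000000000000000000000000000000100100000c00001000010000020000000100100000000000000008000000000000000400001000003000020000000000000103e000000010360040b8010260040780101600403801006)) (.leaf (nat_lit 0x4000000000040000100000000000001001000000000080000140000000000c0000000001800000000000000000000000000600001c0100100000000001000010000000040040103300406c0000000000000001000018000000000000000400000401001000000000040000000000000000000006000000010010000200000000000800000000000000000000000000300000000000000000000010045a80000000001800000000014010010045a800003000000000010000140103300001c00005000014000060040cc01001000024000000000000000300000c00000000010000050000040100100000800003)))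 (.node (nat_lit 2) (.leaf (nat_lit 0xc0000200000000000004004000030000040000400000000000000000000000000000100100000c00000000000000000000040000a0000000000200000000000000000000000000000000100400400002000000000000000000000600001800000000028000080000240000600001c010010000000000000000400004000000000050040040000000000400000000000000000040040000000000000001000000000000000000000400000c000000000000000000001c00000004004000000000000000800000000001000000000000000080000600000c00000000000000000000040100100000800003)) (.node (nat_lit 3) (.leaf (nat_lit 0x40040000500000c000000000080000000000c000090000140000000000000007000000000000000100000000000401001000000000000000000000000002400004000010000060000240100100000c000080000140000000490800003000000000000000000000600000000008004004000000000000100b00000000000000000000050000000000600002401001000000000000000000000200400400000000000000010000140000500000000004000000000000000080100100000c000010000000000200000000000000000000000000000000000000000000000010000000000040100100000800003))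 (.leaf (nat_lit 0x8010010000040000000000c00000000000000000000100000000000401001000014000000000240000000001c0000000000000000000000000010040040000000000000002000000000020000000000000000000000000000000000000080000000000401001000000000010000000000200000000000004004000000000000000000000800002000000000000000040000000000000002004004000000000000000000001c00000000018000000000000000000000000001000000000000040040000300000400000000000000000040cc000000000040000000000c010010000200000000000400006))))) (.node (nat_lit 6) (.node (nat_lit 5) (.leaf (nat_lit 0x6648900100100000000000000008000000000000000000000000000000001b94cc00400400000000000000000000000000000000000000000000000000000040000000001400000000000000000040040000000000000004000008000000000000000100000000004000000000070040040000300002000005000000000000040040000000000c0000200000000000000008000050000000000000408c0000000000c00000000010000020000040100100000000001000000000020040040000500000c000020000080000000002800009000004000000000000000000400400001000004000010000000000000000000000))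 (.leaf (nat_lit 0x72489400000000000010010000040000100000000000000000000000000000000000000000000000000000000040040000300000000000000000000006e4ef00000100000001001000000000000000040000000000000000000001b92ad0000180000000000000000000020010010000000000000000000000724ab000001000000010010000040000000000000000000000000000000019933400000000000000000000050040040000000000000000000000000006e4cd00000500000000000000000000000040040000000000000000000001994cd0000040000000400400001000000000000000000000000000000000))) (.node (nat_lit 7) (.leaf (nat_lit 0x7c467000004000000000000000000000000000001001000000000000000024100400000400000004004000010000000000000000000000000000000007c4cd00100100000000000000008000000000000000000000000000000001f13bc0040040000000000000000000000000000000000000000000000000000000010010000000000000000800007000010000000000000000000000000000004004000000000000000000002c0000a0000000000000000000000000008000000000000100100000000001000004000000000000000000000000000000000000000000080000000000c010010000000000000000000000))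 (.node (nat_lit 8) (.leaf (nat_lit 0x7c42300000100000001001000004000000000000000000000000006000012393bc00000400000004004000000000000000000000000000000018000048e4cd0000030000000000000000000000000000000000000000000a0040061933400000400000004004000010000000000000000000000000000000009042300000100000001001000000000000000000000000000000000000001f14cd00000800000000000000000000000000000000401001000000000007e4ef00000100000001001000004000000000000000400000000000000001f93340000040000000400400000000000000000000100000500000000000)) (.leaf (nat_lit 0x101300000c0000000000000000000000000000000000000000001c01001))))))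
noncomputable def F_0 : Tr := (.node (nat_lit 4) (.node (nat_lit 1) (.node (nat_lit 0) (.leaf (nat_lit 0x22a68aea9a78e196c91b5d44da81c6197d559e74f38b49134c40a2481c61440c2040)) (.leaf (nat_lit 0x27a29aabb2281f6e65e59186938dd51e8565597124503ce30d2c71842891480c2040))) (.node (nat_lit 2) (.leaf (nat_lit 0x289e29acae97a452a8587e575c65a6e05ce4634cb54f4161ca48c1063481490c2040)) (.node (nat_lit 3) (.leaf (nat_lit 0x298a7b26aa895d8eb4e069e9176df65870f4948552ce59018944430720d14a0c2040)) (.leaf (nat_lit 0x1e8196d89639d59945ab46c412a4faa83a19222dc7dd6973474ca2483040c6141080))))) (.node (nat_lit 6) (.node (nat_lit 5) (.leaf (nat_lit 0x1d71f697921567593992a90b2b3e944ea2394b8a065e6d834650a24810c0870450c0)) (.leaf (nat_lit 0x1e8e095b6195e87d4aa1addb2692771aa5139389649054f2872c934818c0c4085040))) (.node (nat_lit 7) (.leaf (nat_lit 0x1d7e15e469ca5bad382a8ec799a189a79523e25115903952462cd288307084143040)) (.node (nat_lit 8) (.leaf (nat_lit 0x2c6d781f595863922969a1e74fad2391aa79944da6107193452ca2480c23011c6100))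 (.leaf (nat_lit 0x2caeaa298a69257e78218dd7995d47136cd31a60a2481c65951124503ce14b083001))))))
noncomputable def T : Tr := T_0
noncomputable def J : Tr := J_0
noncomputable def F : Tr := F_0
noncomputable def row (u : ℕ) : ℕ := Nat.land (Nat.shiftRight (force (Nat.shiftRight u (nat_lit 3)) T.get) (Nat.mul (Nat.land u (nat_lit 7)) (nat_lit 204))) (nat_lit 0xfffffffffffffffffffffffffffffffffffffffffffffffffff)
noncomputable def jrow (u : ℕ) : ℕ := Nat.land (Nat.shiftRight (force (Nat.shiftRight u (nat_lit 3)) J.get) (Nat.mul (Nat.land u (nat_lit 7)) (nat_lit 242))) (nat_lit 0x3ffffffffffffffffffffffffffffffffffffffffffffffffffffffffffff)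
noncomputable def fget (k fx : ℕ) : ℕ := F.get (Nat.add k fx)
noncomputable def wt0 : LT := (.node (nat_lit 3) (.node (nat_lit 1) (.node (nat_lit 0) (.leaf 55 3 [nat_lit 136, nat_lit 0, nat_lit 136])
(.leaf 25 3 [nat_lit 68, nat_lit 0, nat_lit 68]))
(.node (nat_lit 2) (.leaf 15 0 [nat_lit 34, nat_lit 0, nat_lit 34])
(.leaf 41 3 [nat_lit 119, nat_lit 0, nat_lit 102])))
(.node (nat_lit 6) (.node (nat_lit 4) (.leaf 17 0 [nat_lit 51, nat_lit 0, nat_lit 51])
(.node (nat_lit 5) (.leaf 41 1 [nat_lit 102, nat_lit 0, nat_lit 119])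
(.leaf 31 3 [nat_lit 85, nat_lit 0, nat_lit 85])))
(.node (nat_lit 9) (.node (nat_lit 7) (.leaf 69 3 [nat_lit 153, nat_lit 17, nat_lit 153])
(.node (nat_lit 8) (.leaf 13 0 [nat_lit 17, nat_lit 0, nat_lit 17])
(.leaf 47 4 [nat_lit 102, nat_lit 51, nat_lit 119, nat_lit 51, nat_lit 34, nat_lit 17])))
(.leaf 0 0 []))))
noncomputable def wt1 : LT := (.node (nat_lit 4) (.node (nat_lit 1) (.node (nat_lit 0) (.leaf 43 1 [nat_lit 102, nat_lit 17, nat_lit 119])
(.leaf 19 0 [nat_lit 34, nat_lit 17, nat_lit 34]))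
(.node (nat_lit 2) (.leaf 69 1 [nat_lit 153, nat_lit 0, nat_lit 153])
(.node (nat_lit 3) (.leaf 27 3 [nat_lit 68, nat_lit 34, nat_lit 68])
(.leaf 33 3 [nat_lit 85, nat_lit 51, nat_lit 85]))))
(.node (nat_lit 7) (.node (nat_lit 5) (.leaf 43 3 [nat_lit 119, nat_lit 17, nat_lit 102])
(.node (nat_lit 6) (.leaf 13 3 [nat_lit 0, nat_lit 17, nat_lit 0])
(.leaf 21 0 [nat_lit 51, nat_lit 17, nat_lit 51])))
(.node (nat_lit 9) (.node (nat_lit 8) (.leaf 59 5 [nat_lit 136, nat_lit 17, nat_lit 136, nat_lit 17, nat_lit 136])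
(.leaf 47 3 [nat_lit 0, nat_lit 102, nat_lit 51, nat_lit 119, nat_lit 51, nat_lit 34]))
(.leaf 0 0 []))))
noncomputable def wt2 : LT := (.node (nat_lit 4) (.node (nat_lit 1) (.node (nat_lit 0) (.leaf 27 1 [nat_lit 68, nat_lit 17, nat_lit 68])
(.leaf 35 6 [nat_lit 85, nat_lit 51, nat_lit 34, nat_lit 17, nat_lit 0, nat_lit 85]))
(.node (nat_lit 2) (.leaf 23 0 [nat_lit 51, nat_lit 34, nat_lit 51])
(.node (nat_lit 3) (.leaf 71 3 [nat_lit 153, nat_lit 51, nat_lit 153])
(.leaf 45 3 [nat_lit 119, nat_lit 51, nat_lit 102]))))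
(.node (nat_lit 9) (.node (nat_lit 6) (.node (nat_lit 5) (.leaf 15 3 [nat_lit 0, nat_lit 34, nat_lit 0])
(.leaf 29 2 [nat_lit 17, nat_lit 0, nat_lit 68, nat_lit 51, nat_lit 68, nat_lit 51]))
(.node (nat_lit 7) (.leaf 19 3 [nat_lit 17, nat_lit 34, nat_lit 17])
(.node (nat_lit 8) (.leaf 35 2 [nat_lit 17, nat_lit 0, nat_lit 85, nat_lit 34, nat_lit 85, nat_lit 51])
(.leaf 65 7 [nat_lit 136, nat_lit 17, nat_lit 68, nat_lit 51, nat_lit 85, nat_lit 136, nat_lit 51]))))
(.leaf 0 0 [])))
noncomputable def wt3 : LT := (.node (nat_lit 2) (.node (nat_lit 0) (.leaf 23 3 [nat_lit 34, nat_lit 51, nat_lit 34])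
(.node (nat_lit 1) (.leaf 33 1 [nat_lit 85, nat_lit 17, nat_lit 85])
(.leaf 29 6 [nat_lit 68, nat_lit 51, nat_lit 34, nat_lit 17, nat_lit 0, nat_lit 68])))
(.node (nat_lit 6) (.node (nat_lit 4) (.node (nat_lit 3) (.leaf 71 1 [nat_lit 153, nat_lit 34, nat_lit 153])
(.leaf 65 6 [nat_lit 34, nat_lit 136, nat_lit 17, nat_lit 68, nat_lit 51, nat_lit 85, nat_lit 136]))
(.node (nat_lit 5) (.leaf 21 3 [nat_lit 17, nat_lit 51, nat_lit 17])
(.leaf 47 6 [nat_lit 119, nat_lit 51, nat_lit 34, nat_lit 17, nat_lit 0, nat_lit 102])))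
(.node (nat_lit 8) (.node (nat_lit 7) (.leaf 45 1 [nat_lit 102, nat_lit 34, nat_lit 119])
(.leaf 17 3 [nat_lit 0, nat_lit 51, nat_lit 0]))
(.leaf 0 0 []))))
noncomputable def wt4 : LT := (.node (nat_lit 5) (.node (nat_lit 1) (.node (nat_lit 0) (.leaf 49 3 [nat_lit 119, nat_lit 85, nat_lit 102])
(.leaf 61 3 [nat_lit 136, nat_lit 68, nat_lit 136]))
(.node (nat_lit 2) (.leaf 37 0 [nat_lit 85, nat_lit 68, nat_lit 85])
(.node (nat_lit 3) (.leaf 51 2 [nat_lit 102, nat_lit 85, nat_lit 119, nat_lit 85])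
(.node (nat_lit 4) (.leaf 27 0 [nat_lit 34, nat_lit 68, nat_lit 17])
(.leaf 27 2 [nat_lit 17, nat_lit 68, nat_lit 34])))))
(.node (nat_lit 9) (.node (nat_lit 7) (.node (nat_lit 6) (.leaf 65 2 [nat_lit 51, nat_lit 85, nat_lit 136, nat_lit 51, nat_lit 34, nat_lit 136, nat_lit 17])
(.leaf 25 0 [nat_lit 0, nat_lit 68, nat_lit 0]))
(.node (nat_lit 8) (.leaf 29 5 [nat_lit 51, nat_lit 68, nat_lit 51, nat_lit 34, nat_lit 17, nat_lit 0])
(.leaf 75 9 [nat_lit 153, nat_lit 68, nat_lit 153, nat_lit 68, nat_lit 153, nat_lit 68, nat_lit 153, nat_lit 68, nat_lit 153])))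
(.leaf 0 0 [])))
noncomputable def wt5 : LT := (.node (nat_lit 3) (.node (nat_lit 1) (.node (nat_lit 0) (.leaf 51 4 [nat_lit 119, nat_lit 85, nat_lit 68, nat_lit 102])
(.leaf 63 3 [nat_lit 136, nat_lit 85, nat_lit 136]))
(.node (nat_lit 2) (.leaf 37 3 [nat_lit 68, nat_lit 85, nat_lit 68])
(.leaf 35 5 [nat_lit 34, nat_lit 85, nat_lit 51, nat_lit 34, nat_lit 17, nat_lit 0])))
(.node (nat_lit 8) (.node (nat_lit 5) (.node (nat_lit 4) (.leaf 33 2 [nat_lit 17, nat_lit 85, nat_lit 51])
(.leaf 33 0 [nat_lit 51, nat_lit 85, nat_lit 17]))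
(.node (nat_lit 6) (.leaf 49 1 [nat_lit 102, nat_lit 68, nat_lit 119])
(.node (nat_lit 7) (.leaf 51 1 [nat_lit 68, nat_lit 102, nat_lit 85, nat_lit 119])
(.leaf 65 4 [nat_lit 136, nat_lit 51, nat_lit 34, nat_lit 136, nat_lit 17, nat_lit 68, nat_lit 51]))))
(.node (nat_lit 10) (.node (nat_lit 9) (.leaf 31 0 [nat_lit 0, nat_lit 85, nat_lit 0])
(.leaf 77 9 [nat_lit 153, nat_lit 85, nat_lit 153, nat_lit 85, nat_lit 153, nat_lit 85, nat_lit 153, nat_lit 85, nat_lit 153]))
(.leaf 0 0 []))))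
noncomputable def wt6 : LT := (.node (nat_lit 1) (.node (nat_lit 0) (.leaf 39 0 [nat_lit 119, nat_lit 119])
(.leaf 73 3 [nat_lit 153, nat_lit 119, nat_lit 153]))
(.node (nat_lit 3) (.node (nat_lit 2) (.leaf 57 3 [nat_lit 136, nat_lit 102, nat_lit 136])
(.leaf 45 0 [nat_lit 51, nat_lit 102, nat_lit 34]))
(.node (nat_lit 6) (.node (nat_lit 4) (.leaf 49 0 [nat_lit 85, nat_lit 102, nat_lit 68])
(.node (nat_lit 5) (.leaf 51 0 [nat_lit 85, nat_lit 68, nat_lit 102, nat_lit 85])
(.leaf 43 0 [nat_lit 17, nat_lit 102, nat_lit 17])))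
(.leaf 0 0 []))))
noncomputable def wt7 : LT := (.node (nat_lit 6) (.node (nat_lit 2) (.node (nat_lit 0) (.leaf 51 3 [nat_lit 85, nat_lit 119, nat_lit 85, nat_lit 68])
(.node (nat_lit 1) (.leaf 49 2 [nat_lit 68, nat_lit 119, nat_lit 85])
(.leaf 45 2 [nat_lit 34, nat_lit 119, nat_lit 51])))
(.node (nat_lit 3) (.leaf 47 5 [nat_lit 51, nat_lit 119, nat_lit 51, nat_lit 34, nat_lit 17, nat_lit 0])
(.node (nat_lit 4) (.leaf 57 1 [nat_lit 136, nat_lit 119, nat_lit 136])
(.node (nat_lit 5) (.leaf 41 2 [nat_lit 0, nat_lit 119, nat_lit 0])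
(.leaf 43 2 [nat_lit 17, nat_lit 119, nat_lit 17])))))
(.leaf 0 0 []))
noncomputable def wt8 : LT := (.node (nat_lit 4) (.node (nat_lit 1) (.node (nat_lit 0) (.leaf 61 0 [nat_lit 68, nat_lit 136, nat_lit 68])
(.leaf 57 2 [nat_lit 119, nat_lit 136, nat_lit 102]))
(.node (nat_lit 2) (.leaf 65 0 [nat_lit 17, nat_lit 68, nat_lit 51, nat_lit 85, nat_lit 136, nat_lit 51, nat_lit 34])
(.node (nat_lit 3) (.leaf 57 0 [nat_lit 102, nat_lit 136, nat_lit 119])
(.leaf 59 0 [nat_lit 17, nat_lit 136, nat_lit 17, nat_lit 136, nat_lit 17]))))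
(.node (nat_lit 8) (.node (nat_lit 5) (.leaf 55 0 [nat_lit 0, nat_lit 136, nat_lit 0])
(.node (nat_lit 6) (.leaf 63 0 [nat_lit 85, nat_lit 136, nat_lit 85])
(.node (nat_lit 7) (.leaf 79 0 [nat_lit 153, nat_lit 136, nat_lit 153, nat_lit 136, nat_lit 153, nat_lit 136, nat_lit 153])
(.leaf 65 5 [nat_lit 51, nat_lit 34, nat_lit 136, nat_lit 17, nat_lit 68, nat_lit 51, nat_lit 85]))))
(.leaf 0 0 [])))
noncomputable def wt9 : LT := (.node (nat_lit 2) (.node (nat_lit 0) (.leaf 73 0 [nat_lit 119, nat_lit 153, nat_lit 119])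
(.node (nat_lit 1) (.leaf 71 2 [nat_lit 34, nat_lit 153, nat_lit 51])
(.leaf 69 2 [nat_lit 0, nat_lit 153, nat_lit 17])))
(.node (nat_lit 6) (.node (nat_lit 3) (.leaf 71 0 [nat_lit 51, nat_lit 153, nat_lit 34])
(.node (nat_lit 4) (.leaf 75 0 [nat_lit 68, nat_lit 153, nat_lit 68, nat_lit 153, nat_lit 68, nat_lit 153, nat_lit 68, nat_lit 153, nat_lit 68])
(.node (nat_lit 5) (.leaf 77 0 [nat_lit 85, nat_lit 153, nat_lit 85, nat_lit 153, nat_lit 85, nat_lit 153, nat_lit 85, nat_lit 153, nat_lit 85])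
(.leaf 79 7 [nat_lit 136, nat_lit 153, nat_lit 136, nat_lit 153, nat_lit 136, nat_lit 153, nat_lit 136]))))
(.leaf 0 0 [])))
noncomputable def wt10 : LT := (.node (nat_lit 2) (.node (nat_lit 0) (.leaf 46 2 [nat_lit 119, nat_lit 0, nat_lit 17, nat_lit 34, nat_lit 51, nat_lit 102, nat_lit 51])
(.node (nat_lit 1) (.leaf 75 0 [nat_lit 68, nat_lit 153, nat_lit 68, nat_lit 153, nat_lit 68, nat_lit 153, nat_lit 68, nat_lit 153, nat_lit 68, nat_lit 153])
(.leaf 78 1 [nat_lit 153, nat_lit 136, nat_lit 153, nat_lit 136, nat_lit 153, nat_lit 136, nat_lit 153, nat_lit 136])))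
(.leaf 0 0 []))
noncomputable def sl : List (ℕ × ℕ × List ℕ × List ℕ) := [(0, nat_lit 0, [], []),
(2, nat_lit 17, [], []),
(4, nat_lit 34, [], []),
(6, nat_lit 51, [], []),
(8, nat_lit 68, [], []),
(10, nat_lit 85, [], []),
(12, nat_lit 102, [], []),
(14, nat_lit 136, [], [])]
/-- the inverse column -/
noncomputable def icol (x : ℕ) : ℕ := List.getD [nat_lit 0, nat_lit 1, nat_lit 2, nat_lit 3, nat_lit 4, nat_lit 5, nat_lit 7, nat_lit 6, nat_lit 8, nat_lit 9] x x
noncomputable def inv (x : ℕ) : ℕ := Nat.mul (icol (Nat.div x (nat_lit 17))) (nat_lit 17)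
def cols : List ℕ := [nat_lit 170, nat_lit 0, nat_lit 17, nat_lit 34, nat_lit 51, nat_lit 68, nat_lit 85, nat_lit 102, nat_lit 119, nat_lit 136, nat_lit 153]
noncomputable def cl : CL := (.cons (nat_lit 0) (nat_lit 0) (nat_lit 0) (nat_lit 0) wt0
(.cons (nat_lit 17) (nat_lit 17) (nat_lit 22) (nat_lit 1) wt1
(.cons (nat_lit 34) (nat_lit 34) (nat_lit 44) (nat_lit 2) wt2
(.cons (nat_lit 51) (nat_lit 51) (nat_lit 66) (nat_lit 3) wt3
(.cons (nat_lit 68) (nat_lit 68) (nat_lit 88) (nat_lit 4) wt4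
(.cons (nat_lit 85) (nat_lit 85) (nat_lit 110) (nat_lit 5) wt5
(.cons (nat_lit 102) (nat_lit 119) (nat_lit 132) (nat_lit 6) wt6
(.cons (nat_lit 119) (nat_lit 102) (nat_lit 154) (nat_lit 7) wt7
(.cons (nat_lit 136) (nat_lit 136) (nat_lit 176) (nat_lit 8) wt8
(.cons (nat_lit 153) (nat_lit 153) (nat_lit 198) (nat_lit 9) wt9
.nil))))))))))
def rels : List (List ℕ) := [[0, 0],
[1, 1],
[2, 2],
[3, 3],
[4, 4],
[5, 5],
[0, 1, 0, 1],
[0, 2, 0, 2],
[0, 3, 0, 3],
[1, 2, 1, 2],
[1, 3, 1, 3],
[2, 3, 2, 3],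
[4, 0, 4, 0],
[4, 1, 4, 2],
[4, 3, 4, 0, 1, 2, 3],
[5, 0, 5, 0],
[5, 1, 5, 3],
[5, 2, 5, 0, 1, 2, 3],
[4, 5, 4, 5],
[6, 6, 6],
[6, 0, 7, 0],
[6, 1, 7, 1],
[6, 2, 7, 3],
[6, 3, 7, 0, 1, 2, 3],
[6, 4, 7, 5],
[6, 5, 7, 4, 5],
[8, 8],
[8, 0, 8, 0],
[8, 6, 8, 7],
[8, 1, 8, 1, 8, 1],
[8, 4, 8, 4],
[8, 5, 8, 5],
[8, 2, 3, 8, 5, 3, 4, 1],
[9, 9],
[9, 0, 9, 1],
[9, 2, 9, 3],
[9, 6, 9, 6],
[9, 4, 9, 4, 9, 4, 9, 4, 9, 4],
[9, 5, 9, 5, 9, 5, 9, 5, 9, 5],
[8, 9, 8, 9, 8, 9, 8, 9]]
def subs : List (List ℕ) := [[0],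
[1],
[2],
[3],
[4],
[5],
[6],
[8]]
noncomputable def chk : ℕ → Bool := rowChk row jrow fget sl cols (nat_lit 45) (nat_lit 73) (nat_lit 131071) (nat_lit 127) (nat_lit 131072) (nat_lit 170) (nat_lit 187) (nat_lit 4194303) (nat_lit 6) (nat_lit 63) (nat_lit 6) (nat_lit 63) cl (nat_lit 220) wt10
theorem p0 : allB chk 7 0 = true := by decide +kernel
theorem all_chk : AllLt chk 73 := by
  have h := AllLt.zero chk
  have h := h.step 73 p0 (by decide +kernel)
  exact h
/-- column `x` of the final table -/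
noncomputable def tab (x u : ℕ) : ℕ := ft fget (nat_lit 6) (nat_lit 63) (nat_lit 6) (nat_lit 63) (Nat.mul x (nat_lit 1)) u
theorem enum {G Ω : Type*} [Group G] [MulAction G Ω] (g : ℕ → G) (ω : Ω)
    (hinv : ∀ x, g (icol x) = (g x)⁻¹) (h1 : g 10 = 1)
    (hrels : ∀ R ∈ rels, ev g R = 1) (hsubs : ∀ S ∈ subs, ev g S • ω = ω) :
    ∃ pt : ℕ → Ω, pt 0 = ω ∧ (∀ K : Subgroup G, (∀ x, g x ∈ K) → ∀ v, ∃ k ∈ K, pt v = k • ω) ∧
      ∀ x, x < 10 → ∀ u, u < 45 → tab x u < 45 ∧ g x • pt u = pt (tab x u) :=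
  sound_scaled g ω row jrow fget sl inv icol cols (nat_lit 45) (nat_lit 73) (nat_lit 131071) (nat_lit 127) (nat_lit 131072) (nat_lit 170) (nat_lit 187) (nat_lit 4194303) (nat_lit 6) (nat_lit 63) (nat_lit 6) (nat_lit 63) 7 cl (nat_lit 220) wt10 rels subs 17 (nat_lit 1) 10
    (fun _ => Nat.mul_div_cancel _ (by decide)) hinv h1 hrels hsubs
    (by decide +kernel) (by decide +kernel) all_chk
end T54.H63U
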