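import Cfsg.Agent.Lib.McL27.Word
import Cfsg.Agent.Lib.P43.TC
/-! A presentation of `PSp₄(3)` on generators `t n a b u v d r w` of its 2-local amalgam -/
set_option autoImplicit false
set_option maxRecDepth 100000
namespace H63.P43
open H54
def RS : List (List ℕ) := [[0, 0], [2, 2], [4, 4], [6, 6], [8, 8], [10, 10], [0, 2, 0, 2], [0, 4, 0, 4], [0, 6, 0, 6], [2, 4, 2, 4], [2, 6, 2, 6], [4, 6, 4, 6], [8, 0, 8, 0], [8, 2, 8, 4], [8, 6, 8, 0, 2, 4, 6], [10, 0, 10, 0], [10, 2, 10, 6], [10, 4, 10, 0, 2, 4, 6], [8, 10, 8, 10]]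
def RB : List (List ℕ) := [[0, 0], [2, 2], [4, 4], [6, 6], [8, 8], [10, 10], [0, 2, 0, 2], [0, 4, 0, 4], [0, 6, 0, 6], [2, 4, 2, 4], [2, 6, 2, 6], [4, 6, 4, 6], [8, 0, 8, 0], [8, 2, 8, 4], [8, 6, 8, 0, 2, 4, 6], [10, 0, 10, 0], [10, 2, 10, 6], [10, 4, 10, 0, 2, 4, 6], [8, 10, 8, 10], [12, 12, 12], [12, 0, 13, 0], [12, 2, 13, 2], [12, 4, 13, 6], [12, 6, 13, 0, 2, 4, 6], [12, 8, 13, 10], [12, 10, 13, 8, 10]]
def RC : List (List ℕ) := [[0, 0], [2, 2], [4, 4], [6, 6], [8, 8], [10, 10], [0, 2, 0, 2], [0, 4, 0, 4], [0, 6, 0, 6], [2, 4, 2, 4], [2, 6, 2, 6], [4, 6, 4, 6], [8, 0, 8, 0], [8, 2, 8, 4], [8, 6, 8, 0, 2, 4, 6], [10, 0, 10, 0], [10, 2, 10, 6], [10, 4, 10, 0, 2, 4, 6], [8, 10, 8, 10], [12, 12, 12], [12, 0, 13, 0], [12, 2, 13, 2], [12, 4, 13, 6], [12, 6, 13, 0, 2, 4, 6], [12, 8, 13, 10], [12, 10, 13, 8, 10], [14, 14], [14, 0, 14, 0],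 [14, 12, 14, 13], [14, 2, 14, 2, 14, 2], [14, 8, 14, 8], [14, 10, 14, 10], [14, 4, 6, 14, 10, 6, 8, 2]]
def RU : List (List ℕ) := [[0, 0], [2, 2], [4, 4], [6, 6], [8, 8], [10, 10], [0, 2, 0, 2], [0, 4, 0, 4], [0, 6, 0, 6], [2, 4, 2, 4], [2, 6, 2, 6], [4, 6, 4, 6], [8, 0, 8, 0], [8, 2, 8, 4], [8, 6, 8, 0, 2, 4, 6], [10, 0, 10, 0], [10, 2, 10, 6], [10, 4, 10, 0, 2, 4, 6], [8, 10, 8, 10], [12, 12, 12], [12, 0, 13, 0], [12, 2, 13, 2], [12, 4, 13, 6], [12, 6, 13, 0, 2, 4, 6], [12, 8, 13, 10], [12, 10, 13, 8, 10], [14, 14], [14, 0, 14, 0], [14, 12, 14, 13], [14, 2, 14, 2, 14, 2], [14, 8, 14, 8], [14, 10, 14, 10], [14, 4, 6, 14, 10, 6, 8, 2], [16, 16], [16, 0, 16, 2], [16, 4, 16, 6], [16, 12, 16, 12], [16, 8, 16, 8, 16, 8, 16, 8, 16, 8], [16, 10, 16, 10, 16, 10, 16, 10, 16, 10], [14, 16, 14, 16, 14, 16, 14, 16]]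
theorem bndS : Bnd RS 6 64 :=
  Bnd.tc (bnd_zero []) (n := 64) (fun g ω => T54.H63S.enum g ω) (by decide) [0, 2, 4, 6, 8, 10] rfl (fun _ h => h)
    []
    []
    (by decide +kernel)
theorem bndB : Bnd RB 7 192 :=
  Bnd.tc bndS (n := 3) (fun g ω => T54.H63B.enum g ω) (by decide) [0, 2, 4, 6, 8, 10, 12, 13] rfl (icol_ge _ rfl)
    [[0],
  [2],
  [4],
  [6],
  [8],
  [10]]
    [([12, 13], []),
  ([13, 12], [])]
    (by decide +kernel)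
theorem bndC : Bnd RC 8 576 :=
  Bnd.tc bndB (n := 3) (fun g ω => T54.H63C.enum g ω) (by decide) [0, 2, 4, 6, 8, 10, 12, 13, 14] rfl (icol_ge _ rfl)
    [[0],
  [2],
  [4],
  [6],
  [8],
  [10],
  [12]]
    [([12, 13], []),
  ([13, 12], [])]
    (by decide +kernel)
theorem bndU : Bnd RU 9 25920 :=
  Bnd.tc bndC (n := 45) (fun g ω => T54.H63U.enum g ω) (by decide) [0, 2, 4, 6, 8, 10, 12, 13, 14, 16] rfl (icol_ge _ rfl)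
    [[0],
  [2],
  [4],
  [6],
  [8],
  [10],
  [12],
  [14]]
    [([12, 13], []),
  ([13, 12], [])]
    (by decide +kernel)
theorem eqns_pres : True := by
  have := @RS.eq_1
  have := @RB.eq_1
  have := @RC.eq_1
  have := @RU.eq_1
  trivial
end H63.P43
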